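import Mathlib
import Cfsg.Prelude.Def_JComponents
import Cfsg.Agent.S2941
import Cfsg.Agent.Lib.Helper25.KS12.FF2Core
import Cfsg.Agent.Lib.Helper85.KS12.HCommClosed
import Cfsg.Agent.Lib.Helper2.KS12.PZ
import Cfsg.Agent.Lib.Helper74.KS12.FFMin

set_option autoImplicit false

/-!
# KS12: two distinct J(T)-components of `L ∈ jOvergroups T` normalize each other (helper25)

Key step of S2944 (`N_G(W_K) ≤ N_G(K)`), without the full structure theorem: only the facts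
"`K₂` centralizes `W_{K₁}`", "`[K₁, K₂] ≤ C_L(V_L)`", the Z-facts on `C_L(V_L)`, S2941 and the
local structure of a J(T)-component.
-/

namespace Cfsg.Agent.Lib.Helper25.KS12

open Cfsg
open Cfsg.Agent.Lib.Helper11 (maxElemAbIn)
open Cfsg.Agent.Lib.Helper71.JC
open Cfsg.Agent.Lib.Helper2.KS12 (CL VL)
open scoped commutatorElement

universe u
variable {G : Type u} [Group G]

/-- If `a` inverts `d`, centralizes `m` and `[d, m]`, and `[d, m]` commutes with `d`, then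
`[d, m]² = 1`. -/
theorem comm_sq_eq_one {H : Type*} [Group H] {a d m : H} (had : a * d * a⁻¹ = d⁻¹)
    (ham : a * m * a⁻¹ = m) (hzd : (d * m * d⁻¹ * m⁻¹) * d = d * (d * m * d⁻¹ * m⁻¹))
    (haz : a * (d * m * d⁻¹ * m⁻¹) * a⁻¹ = d * m * d⁻¹ * m⁻¹) :
    (d * m * d⁻¹ * m⁻¹) ^ 2 = 1 := by
  have h1 : a * (d * m * d⁻¹ * m⁻¹) * a⁻¹ =
      (a * d * a⁻¹) * (a * m * a⁻¹) * (a * d * a⁻¹)⁻¹ * (a * m * a⁻¹)⁻¹ := by group
  rw [had, ham, inv_inv, haz] at h1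
  have h2 : d⁻¹ * m * d * m⁻¹ = d⁻¹ * (d * m * d⁻¹ * m⁻¹)⁻¹ * d := by group
  have h3 : d⁻¹ * (d * m * d⁻¹ * m⁻¹)⁻¹ * d = (d * m * d⁻¹ * m⁻¹)⁻¹ := by
    generalize d * m * d⁻¹ * m⁻¹ = z at hzd
    have h4 : z⁻¹ * d = d * z⁻¹ := by
      calc z⁻¹ * d = z⁻¹ * (d * z) * z⁻¹ := by group
        _ = z⁻¹ * (z * d) * z⁻¹ := by rw [hzd]
        _ = d * z⁻¹ := by group
    rw [mul_assoc, h4, ← mul_assoc, inv_mul_cancel, one_mul]
  rw [h2, h3] at h1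
  rw [pow_two]
  nth_rewrite 1 [h1]
  exact inv_mul_cancel _

/-- The same modulo a normal subgroup `Q` of `L`. -/
theorem comm_sq_mem {Q L : Subgroup G} (hQL : Q ≤ L)
    (hLQ : L ≤ Subgroup.normalizer (Q : Set G)) {a d m : G} (ha : a ∈ L) (hd : d ∈ L)
    (hm : m ∈ L) (had : a * d * a⁻¹ * d ∈ Q) (ham : a * m * a⁻¹ * m⁻¹ ∈ Q)
    (hzd : (d * m * d⁻¹ * m⁻¹) * d * (d * m * d⁻¹ * m⁻¹)⁻¹ * d⁻¹ ∈ Q)
    (haz : a * (d * m * d⁻¹ * m⁻¹) * a⁻¹ * (d * m * d⁻¹ * m⁻¹)⁻¹ ∈ Q) :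
    (d * m * d⁻¹ * m⁻¹) ^ 2 ∈ Q := by
  haveI : (Q.subgroupOf L).Normal := (Subgroup.normal_subgroupOf_iff_le_normalizer hQL).mpr hLQ
  have key : ∀ x : L, (x : G) ∈ Q → QuotientGroup.mk' (Q.subgroupOf L) x = 1 :=
    fun x hx => (QuotientGroup.eq_one_iff x).mpr (Subgroup.mem_subgroupOf.mpr hx)
  obtain ⟨a', rfl⟩ : ∃ a' : L, (a' : G) = a := ⟨⟨a, ha⟩, rfl⟩
  obtain ⟨d', rfl⟩ : ∃ d' : L, (d' : G) = d := ⟨⟨d, hd⟩, rfl⟩
  obtain ⟨m', rfl⟩ : ∃ m' : L, (m' : G) = m := ⟨⟨m, hm⟩, rfl⟩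
  have h1 := key (a' * d' * a'⁻¹ * d') (by simpa using had)
  have h2 := key (a' * m' * a'⁻¹ * m'⁻¹) (by simpa using ham)
  have h3 := key ((d' * m' * d'⁻¹ * m'⁻¹) * d' * (d' * m' * d'⁻¹ * m'⁻¹)⁻¹ * d'⁻¹)
    (by simpa using hzd)
  have h4 := key (a' * (d' * m' * d'⁻¹ * m'⁻¹) * a'⁻¹ * (d' * m' * d'⁻¹ * m'⁻¹)⁻¹)
    (by simpa using haz)
  simp only [map_mul, map_inv] at h1 h2 h3 h4
  have hz := comm_sq_eq_one (eq_inv_of_mul_eq_one_left h1) (mul_inv_eq_one.mp h2)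
    (mul_inv_eq_one.mp (by rw [← h3]; group)) (mul_inv_eq_one.mp h4)
  have h5 : QuotientGroup.mk' (Q.subgroupOf L) ((d' * m' * d'⁻¹ * m'⁻¹) ^ 2) = 1 := by
    rw [map_pow]; simp only [map_mul, map_inv]; exact hz
  have h6 := Subgroup.mem_subgroupOf.mp ((QuotientGroup.eq_one_iff _).mp h5)
  simpa using h6

/-- `c ^ |C : R| ∈ R` for `R` normal in `C`. -/
theorem pow_relIndex_mem_of_le_normalizer {R C : Subgroup G} (hRC : R ≤ C)
    (hCR : C ≤ Subgroup.normalizer (R : Set G)) {c : G} (hc : c ∈ C) :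
    c ^ (R.relIndex C) ∈ R := by
  haveI : (R.subgroupOf C).Normal := (Subgroup.normal_subgroupOf_iff_le_normalizer hRC).mpr hCR
  have h3 := Subgroup.pow_index_mem (R.subgroupOf C) (⟨c, hc⟩ : C)
  exact Subgroup.mem_subgroupOf.mp h3

/-- A subgroup `K = [K, J]` of `L` acts trivially on `C / Q` as soon as `J` does (`C`, `Q`
normal in `L`). -/
theorem le_commW_of_comm_eq {Q C L K J : Subgroup G}
    (hLQ : L ≤ Subgroup.normalizer (Q : Set G)) (hLC : L ≤ Subgroup.normalizer (C : Set G))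
    (hKL : K ≤ L) (hJ : J ≤ commW Q (C : Set G)) (hKJ : ⁅K, J⁆ = K) :
    K ≤ commW Q (C : Set G) := by
  have h : ⁅K, J⁆ ≤ commW Q (C : Set G) := by
    rw [Subgroup.commutator_le]
    intro k hk j hj
    have hkQ : k ∈ Subgroup.normalizer (Q : Set G) := hLQ (hKL hk)
    have hkC : k ∈ Subgroup.normalizer (C : Set G) := hLC (hKL hk)
    have hj' := mem_commW.mp (hJ hj)
    have h1 : k * j * k⁻¹ ∈ commW Q (C : Set G) := by
      refine mem_commW.mpr ⟨Subgroup.mul_mem _ (Subgroup.mul_mem _ hkQ hj'.1)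
        (Subgroup.inv_mem _ hkQ), fun c hc => ?_⟩
      have hc' : k⁻¹ * c * k ∈ C := conj_inv_mem_of_mem_normalizer hkC hc
      have h2 := conj_mem_of_mem_normalizer hkQ (hj'.2 _ hc')
      have e : c * (k * j * k⁻¹) * c⁻¹ * (k * j * k⁻¹)⁻¹ =
          k * ((k⁻¹ * c * k) * j * (k⁻¹ * c * k)⁻¹ * j⁻¹) * k⁻¹ := by group
      rw [e]; exact h2
    rw [commutatorElement_def]
    exact Subgroup.mul_mem _ h1 (Subgroup.inv_mem _ (hJ hj))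
  rwa [hKJ] at h

namespace CfgAux

variable {K J R W S : Subgroup G}

/-- An involution of `J` not centralizing `W` inverts `K` modulo `R`. -/
theorem inv_mem (c : Cfg K J R W S) {a : G} (ha : a ∈ J) (ha2 : a * a = 1)
    (hna : ¬ ∀ w ∈ W, a * w * a⁻¹ = w) {d : G} (hd : d ∈ K) : a * d * a⁻¹ * d ∈ R := by
  have haR : a ∈ Subgroup.normalizer (R : Set G) := c.hJR ha
  by_cases hdR : d ∈ R
  · exact R.mul_mem (conj_mem_of_mem_normalizer haR hdR) hdR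
  obtain ⟨u, hu, hu1, hufix, huniq, -⟩ :=
    invol_struct c.hW4 c.hW2 c.Wcomm (c.hJW ha) ha2 hna
  obtain ⟨hd3, hdec⟩ := q3 c.hRK c.hKR c.hidx hd hdR
  have hadK : a * d * a⁻¹ ∈ K := conj_mem_of_mem_normalizer (c.hJK ha) hd
  obtain ⟨i, r, hr, hi⟩ := hdec _ hadK
  have hr' : (d ^ 3) ^ (i / 3) * r ∈ R := R.mul_mem (R.pow_mem hd3 _) hr
  have hi' : a * d * a⁻¹ = d ^ (i % 3) * ((d ^ 3) ^ (i / 3) * r) := by
    rw [hi, ← mul_assoc, ← pow_mul, ← pow_add, Nat.mod_add_div]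
  generalize (d ^ 3) ^ (i / 3) * r = r' at hr' hi'
  have h3 : i % 3 = 0 ∨ i % 3 = 1 ∨ i % 3 = 2 := by omega
  rcases h3 with h3 | h3 | h3
  · exfalso
    apply hdR
    rw [h3, pow_zero, one_mul] at hi'
    have h4 : d = a⁻¹ * (a * d * a⁻¹) * a := by group
    rw [h4, hi']
    exact conj_inv_mem_of_mem_normalizer haR hr'
  · exfalso
    rw [h3, pow_one] at hi'
    have hduW : d * u * d⁻¹ ∈ W := conj_mem_of_mem_normalizer (c.hKW hd) hu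
    have hfix : a * (d * u * d⁻¹) * a⁻¹ = d * u * d⁻¹ := by
      have e : a * (d * u * d⁻¹) * a⁻¹ = (a * d * a⁻¹) * (a * u * a⁻¹) * (a * d * a⁻¹)⁻¹ := by
        group
      rw [e, hufix, hi']
      have hur : u * r' = r' * u := c.hWZ u hu r' hr'
      calc d * r' * u * (d * r')⁻¹ = d * (r' * u) * r'⁻¹ * d⁻¹ := by group
        _ = d * (u * r') * r'⁻¹ * d⁻¹ := by rw [hur]
        _ = d * u * d⁻¹ := by group
    rcases huniq _ hduW hfix with h | h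
    · apply hu1
      have h4 : u = d⁻¹ * (d * u * d⁻¹) * d := by group
      rw [h4, h]; group
    · exact hu1 (c.hfp d hd hdR u hu h)
  · rw [h3] at hi'
    rw [hi']
    have h4 : d ^ 2 * r' * d = d ^ 3 * (d⁻¹ * r' * d) := by
      rw [pow_succ d 2]; group
    rw [h4]
    exact R.mul_mem hd3 (conj_inv_mem_of_mem_normalizer (c.hKR hd) hr')

/-- An element of `J` centralizing `W` centralizes `K` modulo `R`. -/
theorem comm_mem (c : Cfg K J R W S) {a : G} (ha : a ∈ J)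
    (hca : ∀ w ∈ W, a * w * a⁻¹ = w) {m : G} (hm : m ∈ K) : a * m * a⁻¹ * m⁻¹ ∈ R := by
  apply c.mem_R_of_centralizes
    (K.mul_mem (conj_mem_of_mem_normalizer (c.hJK ha) hm) (K.inv_mem hm))
  intro w hw
  have hw' : m⁻¹ * w * m ∈ W := conj_inv_mem_of_mem_normalizer (c.hKW hm) hw
  have h1 := hca _ hw'
  have h2 : a⁻¹ * (m⁻¹ * w * m) * a = m⁻¹ * w * m := by
    calc a⁻¹ * (m⁻¹ * w * m) * a = a⁻¹ * (a * (m⁻¹ * w * m) * a⁻¹) * a := by rw [h1]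
      _ = m⁻¹ * w * m := by group
  calc a * m * a⁻¹ * m⁻¹ * w * (a * m * a⁻¹ * m⁻¹)⁻¹
      = a * m * (a⁻¹ * (m⁻¹ * w * m) * a) * m⁻¹ * a⁻¹ := by group
    _ = a * w * a⁻¹ := by rw [h2]; group
    _ = w := hca w hw

end CfgAux

/-- Two J-components (same `J`) with independent, commuting four-groups `W₁`, `W₂`: some
involution of `J` centralizes `W₂` but not `W₁`. -/
theorem exists_invol_centralizing [Finite G] {K₁ K₂ J R₁ R₂ W₁ W₂ S₁ S₂ : Subgroup G}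
    (c₁ : Cfg K₁ J R₁ W₁ S₁) (c₂ : Cfg K₂ J R₂ W₂ S₂)
    (hdisj : ∀ w ∈ W₁, w ∈ W₂ → w = 1) (hcomm : ∀ w₁ ∈ W₁, ∀ w₂ ∈ W₂, w₁ * w₂ = w₂ * w₁) :
    ∃ a ∈ J, a * a = 1 ∧ (∀ w ∈ W₂, a * w * a⁻¹ = w) ∧ ¬ ∀ w ∈ W₁, a * w * a⁻¹ = w := by
  obtain ⟨A, hA, hAW⟩ := c₁.exists_max_not_centralizes
  have hAJ : A ≤ J := c₁.max_le_J hA
  by_contra hcon
  push Not at hcon
  have key : ∀ a ∈ A, (∀ w ∈ W₂, a * w * a⁻¹ = w) → ∀ w ∈ W₁, a * w * a⁻¹ = w :=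
    fun a ha => hcon a (hAJ ha) (c₁.max_sq hA ha)
  obtain ⟨a, haA, haW⟩ := SetLike.not_le_iff_exists.mp hAW
  have ha1 : ¬ ∀ w ∈ W₁, a * w * a⁻¹ = w := by
    intro h
    apply haW
    rw [Subgroup.mem_centralizer_iff]
    intro w hw
    exact conj_eq_iff_comm.mp (h w hw)
  have ha2 : ¬ ∀ w ∈ W₂, a * w * a⁻¹ = w := fun h => ha1 (key a haA h)
  -- `C_A(W₁)` centralizes `W₂`
  have hA0 : ∀ b ∈ A ⊓ Subgroup.centralizer (W₁ : Set G), ∀ w ∈ W₂, b * w * b⁻¹ = w := by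
    intro b hb
    by_contra hb2
    have hab := two_invol c₂.hW4 c₂.hW2 c₂.Wcomm (c₂.hJW (hAJ haA)) (c₂.hJW (hAJ hb.1))
      (c₁.max_sq hA haA) (c₁.max_sq hA hb.1) (c₁.max_comm hA haA hb.1) ha2 hb2
    have h3 := key (a * b) (A.mul_mem haA hb.1) hab
    apply ha1
    intro w hw
    have hbw : b⁻¹ * w * b = w := by
      have h4 := Subgroup.mem_centralizer_iff.mp hb.2 w hw
      calc b⁻¹ * w * b = b⁻¹ * (w * b) := by group
        _ = b⁻¹ * (b * w) := by rw [h4]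
        _ = w := by group
    calc a * w * a⁻¹ = (a * b) * (b⁻¹ * w * b) * (a * b)⁻¹ := by group
      _ = w := by rw [hbw]; exact h3 w hw
  have hB := c₁.repl hA hAW
  have hW2J : W₂ ≤ J := by
    obtain ⟨A', hA', hA'W⟩ := c₂.exists_max_not_centralizes
    exact le_sup_right.trans (c₂.max_le_J (c₂.repl hA' hA'W))
  have hW2B : W₂ ≤ (A ⊓ Subgroup.centralizer (W₁ : Set G)) ⊔ W₁ := by
    intro w hw
    refine mem_of_centralizes_max hB (c₁.J_le_S (hW2J hw))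
      (by rw [pow_two]; exact c₂.hW2 w hw) ?_
    have hle : (A ⊓ Subgroup.centralizer (W₁ : Set G)) ⊔ W₁ ≤
        Subgroup.centralizer ({w} : Set G) := by
      apply sup_le
      · intro b hb
        rw [Subgroup.mem_centralizer_iff]
        intro h hh
        rw [Set.mem_singleton_iff] at hh
        subst hh
        exact conj_eq_iff_comm.mp (hA0 b hb h hw)
      · intro w₁ hw₁
        rw [Subgroup.mem_centralizer_iff]
        intro h hh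
        rw [Set.mem_singleton_iff] at hh
        subst hh
        exact (hcomm w₁ hw₁ h hw).symm
    intro x hx
    have h5 := Subgroup.mem_centralizer_iff.mp (hle hx) w (Set.mem_singleton w)
    exact h5.symm
  push Not at ha2
  obtain ⟨w₂, hw₂, hw₂a⟩ := ha2
  have hWn : W₁ ≤ Subgroup.normalizer
      ((A ⊓ Subgroup.centralizer (W₁ : Set G) : Subgroup G) : Set G) := by
    apply Cfsg.Agent.Lib.Helper53.le_normalizer_of_conj_mem
    intro w hw b hb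
    have h4 := Subgroup.mem_centralizer_iff.mp hb.2 w hw
    have h5 : w * b * w⁻¹ = b := by
      calc w * b * w⁻¹ = b * w * w⁻¹ := by rw [h4]
        _ = b := by group
    rw [h5]; exact hb
  obtain ⟨b, hb, w₁, hw₁, hdec⟩ := (mem_sup_of_le_normalizer hWn).mp (hW2B hw₂)
  apply hw₂a
  have hab : a * b = b * a := c₁.max_comm hA haA hb.1
  have haw₁ : a * w₁ * a⁻¹ ∈ W₁ := conj_mem_of_mem_normalizer (c₁.hJW (hAJ haA)) hw₁
  have hx1 : a * w₁ * a⁻¹ * w₁⁻¹ ∈ W₁ := W₁.mul_mem haw₁ (W₁.inv_mem hw₁)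
  have hbx := Subgroup.mem_centralizer_iff.mp hb.2 _ hx1
  have e : a * w₂ * a⁻¹ * w₂⁻¹ = a * w₁ * a⁻¹ * w₁⁻¹ := by
    rw [hdec]
    calc a * (b * w₁) * a⁻¹ * (b * w₁)⁻¹ = (a * b) * w₁ * a⁻¹ * w₁⁻¹ * b⁻¹ := by group
      _ = (b * a) * w₁ * a⁻¹ * w₁⁻¹ * b⁻¹ := by rw [hab]
      _ = b * (a * w₁ * a⁻¹ * w₁⁻¹) * b⁻¹ := by group
      _ = (a * w₁ * a⁻¹ * w₁⁻¹) * b * b⁻¹ := by rw [hbx]
      _ = a * w₁ * a⁻¹ * w₁⁻¹ := by group
  have hx2 : a * w₂ * a⁻¹ * w₂⁻¹ ∈ W₂ :=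
    W₂.mul_mem (conj_mem_of_mem_normalizer (c₂.hJW (hAJ haA)) hw₂) (W₂.inv_mem hw₂)
  have h6 := hdisj _ (e ▸ hx1) hx2
  exact mul_inv_eq_one.mp h6

/-- **Two distinct J(T)-components of `L ∈ jOvergroups T` normalize each other.** -/
theorem jComp_normalizes [Finite G] (hL : Cfsg.IsCharacteristicTwoType G)
    (hN : ∀ N : Subgroup G, Cfsg.IsTwoLocal N → Group.IsSolvable ↥N)
    (hZ : ∀ S : Sylow 2 G, Subgroup.centralizer (Cfsg.omegaCenterOf (S : Subgroup G) : Set G) ≤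
      Subgroup.normalizer ((S : Subgroup G) : Set G))
    (T L : Subgroup G) (hT : IsPGroup 2 T) (hT1 : T ≠ ⊥) (hLT : L ∈ jOvergroups T)
    (K₁ K₂ : Subgroup G) (hK₁ : IsJComponent T K₁) (hK₂ : IsJComponent T K₂) (hK₁L : K₁ ≤ L)
    (hK₂L : K₂ ≤ L) (hne : K₁ ≠ K₂) : K₂ ≤ Subgroup.normalizer (K₁ : Set G) := by
  haveI : Fact (Nat.Prime 2) := ⟨Nat.prime_two⟩
  have c₁ := cfg_of_isJComponent hT hK₁
  have c₂ := cfg_of_isJComponent hT hK₂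
  have hTL : IsSylowTwoIn T L := hLT.1
  have hCQ : Subgroup.centralizer (pCoreOf 2 L : Set G) ≤ pCoreOf 2 L := hLT.2.2
  have hJT : thompsonSubgroupOf 2 T ≤ T := Cfsg.Agent.Lib.Helper11.thompsonSubgroupOf_le 2 T
  have hTJ : T ≤ Subgroup.normalizer (thompsonSubgroupOf 2 T : Set G) :=
    Subgroup.le_normalizer.trans
      (Cfsg.Agent.Lib.Helper11.normalizer_le_normalizer_thompsonSubgroupOf 2 T)
  have hLQ : L ≤ Subgroup.normalizer (pCoreOf 2 L : Set G) :=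
    Cfsg.Agent.Lib.Helper47.le_normalizer_pCoreOf 2 L
  have hQL : pCoreOf 2 L ≤ L := Cfsg.Agent.Lib.Helper47.pCoreOf_le 2 L
  have hLC : L ≤ Subgroup.normalizer (CL L : Set G) :=
    Cfsg.Agent.Lib.Helper2.KS12.le_normalizer_CL L
  have hQC : pCoreOf 2 L ≤ CL L := Cfsg.Agent.Lib.Helper2.KS12.pCoreOf_le_CL L
  have hQ2 : IsPGroup 2 (pCoreOf 2 L) := Cfsg.Agent.Lib.Helper47.pCoreOf_isPGroup 2 L
  have h21 : K₂ ≤ Subgroup.centralizer (wOf K₁ : Set G) :=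
    Cfsg.Agent.Lib.Helper85.KS12.jComp_centralize_wOf hL hN hZ T L hT hT1 hLT K₁ K₂ hK₁ hK₂
      hK₁L hK₂L hne
  have hW2K2 : wOf K₂ ≤ K₂ := c₂.hWR.trans c₂.hRK
  have hcomm12 : ∀ w₁ ∈ wOf K₁, ∀ w₂ ∈ wOf K₂, w₁ * w₂ = w₂ * w₁ :=
    fun w₁ hw₁ w₂ hw₂ => Subgroup.mem_centralizer_iff.mp (h21 (hW2K2 hw₂)) w₁ hw₁
  have hdisj : ∀ w ∈ wOf K₁, w ∈ wOf K₂ → w = 1 := by
    intro w hw1 hw2
    obtain ⟨d, hd, hdR⟩ := c₂.exists_d
    apply c₂.hfp d hd hdR w hw2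
    rw [conj_eq_iff_comm]
    exact Subgroup.mem_centralizer_iff.mp (h21 hd) w hw1
  obtain ⟨a, haJ, haa, haW2, haW1⟩ := exists_invol_centralizing c₁ c₂ hdisj hcomm12
  have haL : a ∈ L := hTL.1 (hJT haJ)
  have hAb := Cfsg.Agent.Lib.Helper74.KS12.jComp_comm_le hN hZ T hT1 L hLT
  have hLV : L ≤ Subgroup.normalizer (VL L : Set G) :=
    Cfsg.Agent.Lib.Helper2.KS12.le_normalizer_VL L
  have hQ1 : pCoreOf 2 K₁ ≤ pCoreOf 2 L :=
    Cfsg.Agent.Lib.Helper2.KS12.le_pCoreOf_of_le_CL hZ hTL hCQ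
      (Cfsg.Agent.Lib.Helper47.pCoreOf_isPGroup 2 K₁)
      (le_inf ((Cfsg.Agent.Lib.Helper47.pCoreOf_le 2 K₁).trans hK₁L)
        (Cfsg.Agent.Lib.Helper85.KS12.jcomp_pCoreOf_le_centralizer hK₁ hK₁L hLV
          (hAb K₁ K₁ hK₁ hK₁ hK₁L hK₁L)))
  have hQ2' : pCoreOf 2 K₂ ≤ pCoreOf 2 L :=
    Cfsg.Agent.Lib.Helper2.KS12.le_pCoreOf_of_le_CL hZ hTL hCQ
      (Cfsg.Agent.Lib.Helper47.pCoreOf_isPGroup 2 K₂)
      (le_inf ((Cfsg.Agent.Lib.Helper47.pCoreOf_le 2 K₂).trans hK₂L)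
        (Cfsg.Agent.Lib.Helper85.KS12.jcomp_pCoreOf_le_centralizer hK₂ hK₂L hLV
          (hAb K₂ K₂ hK₂ hK₂ hK₂L hK₂L)))
  -- trivial action on `C / Q`
  have hCT : ⁅CL L, T⁆ ≤ pCoreOf 2 L := Cfsg.Agent.Lib.Helper2.KS12.comm_CL_le hZ hTL hCQ
  have hJX : thompsonSubgroupOf 2 T ≤ commW (pCoreOf 2 L) (CL L : Set G) := by
    intro j hj
    refine mem_commW.mpr ⟨hLQ (hTL.1 (hJT hj)), fun c hc => ?_⟩
    have h1 : ⁅c, j⁆ ∈ ⁅CL L, T⁆ := Subgroup.commutator_mem_commutator hc (hJT hj)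
    rw [commutatorElement_def] at h1
    exact hCT h1
  have hK1X : K₁ ≤ commW (pCoreOf 2 L) (CL L : Set G) :=
    le_commW_of_comm_eq hLQ hLC hK₁L hJX hK₁.2.1
  have hodd : Odd ((pCoreOf 2 L).relIndex (CL L)) :=
    (Cfsg.Agent.Lib.Helper2.KS12.isSylowTwoIn_pCoreOf_CL hZ hTL hCQ).2.2
  -- `[K₁, K₂] ≤ O₂(L)`
  have h5 : ∀ d ∈ K₁, ∀ m ∈ K₂, d * m * d⁻¹ * m⁻¹ ∈ pCoreOf 2 L := by
    intro d hd m hm
    have hzC : d * m * d⁻¹ * m⁻¹ ∈ CL L := by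
      have h1 : ⁅d, m⁆ ∈ ⁅K₁, K₂⁆ := Subgroup.commutator_mem_commutator hd hm
      rw [commutatorElement_def] at h1
      exact hAb K₁ K₂ hK₁ hK₂ hK₁L hK₂L h1
    have hzd := (mem_commW.mp (hK1X hd)).2 _ hzC
    have haz : a * (d * m * d⁻¹ * m⁻¹) * a⁻¹ * (d * m * d⁻¹ * m⁻¹)⁻¹ ∈ pCoreOf 2 L := by
      have h1 := Subgroup.inv_mem _ ((mem_commW.mp (hJX haJ)).2 _ hzC)
      have e : ((d * m * d⁻¹ * m⁻¹) * a * (d * m * d⁻¹ * m⁻¹)⁻¹ * a⁻¹)⁻¹ =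
          a * (d * m * d⁻¹ * m⁻¹) * a⁻¹ * (d * m * d⁻¹ * m⁻¹)⁻¹ := by group
      rwa [e] at h1
    have hz2 : (d * m * d⁻¹ * m⁻¹) ^ 2 ∈ pCoreOf 2 L :=
      comm_sq_mem hQL hLQ haL (hK₁L hd) (hK₂L hm) (hQ1 (CfgAux.inv_mem c₁ haJ haa haW1 hd))
        (hQ2' (CfgAux.comm_mem c₂ haJ haW2 hm)) hzd haz
    have hzn := pow_relIndex_mem_of_le_normalizer hQC ((Cfsg.Agent.Lib.Helper2.KS12.CL_le L).trans hLQ) hzC
    have hcop : Nat.Coprime 2 ((pCoreOf 2 L).relIndex (CL L)) := Nat.coprime_two_left.mpr hodd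
    exact mem_of_pow_mem_coprime hcop hz2 hzn
  -- `O₂(L)` normalizes `K₁`
  have hQK1 : pCoreOf 2 L ≤ Subgroup.normalizer (K₁ : Set G) :=
    Cfsg.Agent.S2941.result hL hN hZ T hT hT1 K₁ hK₁ (pCoreOf 2 L)
      (sup_le (hK₁L.trans hLQ) ((hJT.trans hTL.1).trans hLQ))
      ((Cfsg.Agent.Lib.Helper2.KS12.pCoreOf_le_of_isSylowTwoIn hTL).trans hTJ)
  apply Cfsg.Agent.Lib.Helper53.le_normalizer_of_conj_mem
  intro m hm g hg
  have key : ∀ g ∈ Subgroup.closure {g : G | g ∈ K₁ ∧ Odd (orderOf g)}, m * g * m⁻¹ ∈ K₁ := by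
    intro g hg
    induction hg using Subgroup.closure_induction with
    | mem y hy =>
      have h1 : m * y * m⁻¹ * y⁻¹ ∈ pCoreOf 2 L := by
        have h2 := Subgroup.inv_mem _ (h5 y hy.1 m hm)
        have e : (y * m * y⁻¹ * m⁻¹)⁻¹ = m * y * m⁻¹ * y⁻¹ := by group
        rwa [e] at h2
      have h3 : m * y * m⁻¹ ∈ K₁ ⊔ pCoreOf 2 L := by
        have e : m * y * m⁻¹ = (m * y * m⁻¹ * y⁻¹) * y := by group
        rw [e]
        exact Subgroup.mul_mem _ ((le_sup_right : pCoreOf 2 L ≤ K₁ ⊔ pCoreOf 2 L) h1)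
          ((le_sup_left : K₁ ≤ K₁ ⊔ pCoreOf 2 L) hy.1)
      have h4 : orderOf (m * y * m⁻¹) = orderOf y := by
        rw [← MulAut.conj_apply]; exact MulEquiv.orderOf_eq _ _
      exact mem_of_odd_of_mem_sup hQ2 hQK1 h3 (by rw [h4]; exact hy.2)
    | one => simp
    | mul x y _ _ hx hy =>
      have e : m * (x * y) * m⁻¹ = (m * x * m⁻¹) * (m * y * m⁻¹) := by group
      rw [e]; exact K₁.mul_mem hx hy
    | inv x _ hx =>
      have e : m * x⁻¹ * m⁻¹ = (m * x * m⁻¹)⁻¹ := by group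
      rw [e]; exact K₁.inv_mem hx
  exact key g (by rw [hK₁.1]; exact hg)

end Cfsg.Agent.Lib.Helper25.KS12
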